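import Mathlib
import Groth.Prelude.Def_W4c3severiratdpLat

/-!
# Del Pezzo lattices: enumeration of classes and reduction to dominant vectors

`DP97.mem_enumDP` enumerates the vectors `v : DP δ` with `v·v = c`, `K·v = d`;
`DP97.exists_weyl_dominant` moves such a vector, by a Weyl element fixing every vector
orthogonal to a set `R` of simple roots, to an `R`-dominant vector.
-/

set_option autoImplicit false
open W4c3severiratdp

namespace DP97

/-- Vectors in `Fin n → ℤ` with entries in `C`, sum `S` and sum of squares `T`. -/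
def enumB (C : List ℤ) : (n : ℕ) → ℤ → ℤ → List (Fin n → ℤ)
  | 0, S, T => if S = 0 ∧ T = 0 then [Fin.elim0] else []
  | n + 1, S, T =>
    if S * S ≤ (n + 1) * T then
      C.flatMap fun b =>
        if b * b ≤ T then (enumB C n (S - b) (T - b * b)).map (Fin.cons b) else []
    else []

theorem mem_enumB (C : List ℤ) : ∀ (n : ℕ) (S T : ℤ) (f : Fin n → ℤ),
    f ∈ enumB C n S T ↔ (∀ i, f i ∈ C) ∧ ∑ i, f i = S ∧ ∑ i, f i ^ 2 = T := by
  intro n
  induction n with
  | zero =>
    intro S T f
    unfold enumB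
    have hf : f = Fin.elim0 := funext fun i => i.elim0
    subst hf
    by_cases h : S = 0 ∧ T = 0
    · simp [h]
    · simp [h]
      intro h1 h2
      exact h ⟨h1.symm, h2.symm⟩
  | succ n ih =>
    intro S T f
    constructor
    · intro hf
      unfold enumB at hf
      split at hf
      · obtain ⟨b, hb, hf⟩ := List.mem_flatMap.mp hf
        split at hf
        · obtain ⟨g, hg, rfl⟩ := List.mem_map.mp hf
          obtain ⟨h1, h2, h3⟩ := (ih _ _ g).mp hg
          refine ⟨Fin.cases (by simpa using hb) (fun i => by simpa using h1 i), ?_, ?_⟩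
          · rw [Fin.sum_univ_succ]; simp [h2]
          · rw [Fin.sum_univ_succ]; simp [h3]; ring
        · simp at hf
      · simp at hf
    · rintro ⟨h1, h2, h3⟩
      have hcs : S * S ≤ ((n : ℤ) + 1) * T := by
        have := sq_sum_le_card_mul_sum_sq (s := (Finset.univ : Finset (Fin (n + 1)))) (f := f)
        rw [h2, h3, Finset.card_univ, Fintype.card_fin] at this
        push_cast at this
        nlinarith [this]
      have hT : ∑ i : Fin n, f i.succ ^ 2 = T - f 0 * f 0 := by
        rw [← h3, Fin.sum_univ_succ]; ring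
      have h0 : f 0 * f 0 ≤ T := by
        have := Finset.sum_nonneg (s := (Finset.univ : Finset (Fin n)))
          (f := fun i => f i.succ ^ 2) (fun i _ => sq_nonneg _)
        rw [hT] at this; linarith
      unfold enumB
      rw [if_pos (by exact_mod_cast hcs)]
      refine List.mem_flatMap.mpr ⟨f 0, h1 0, ?_⟩
      rw [if_pos h0]
      refine List.mem_map.mpr ⟨Fin.tail f, (ih _ _ _).mpr ⟨fun i => h1 i.succ, ?_, hT⟩,
        Fin.cons_self_tail f⟩
      rw [← h2, Fin.sum_univ_succ]; simp [Fin.tail]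

theorem nodup_enumB (C : List ℤ) (hC : C.Nodup) : ∀ (n : ℕ) (S T : ℤ), (enumB C n S T).Nodup := by
  intro n
  induction n with
  | zero =>
    intro S T; unfold enumB; split <;> simp
  | succ n ih =>
    intro S T
    unfold enumB
    split
    · rw [List.nodup_flatMap]
      refine ⟨fun b _ => ?_, hC.imp ?_⟩
      · split
        · exact (ih _ _).map (Fin.cons_right_injective (α := fun _ => ℤ) b)
        · simp
      · intro a b hab f hfa hfb
        dsimp only at hfa hfb
        split at hfa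
        · split at hfb
          · obtain ⟨g, -, rfl⟩ := List.mem_map.mp hfa
            obtain ⟨g', -, h⟩ := List.mem_map.mp hfb
            exact hab (by simpa using (congrFun h 0).symm)
          · simp at hfb
        · simp at hfa
    · simp

/-- The range of entries that is searched. -/
def cands : List ℤ := (List.range 23).map fun k : ℕ => (k : ℤ) - 11

theorem mem_cands {x : ℤ} (h1 : -11 ≤ x) (h2 : x ≤ 11) : x ∈ cands := by
  rw [cands, List.mem_map]
  refine ⟨(x + 11).toNat, ?_, ?_⟩
  · rw [List.mem_range]; omega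
  · omega

theorem nodup_cands : cands.Nodup := by decide +kernel

/-- The range of the `b`-entries that is searched. -/
def candsB : List ℤ := [-1, 0, 1, 2, 3, 4]

theorem mem_candsB {x : ℤ} (h1 : -1 ≤ x) (h2 : x ≤ 4) : x ∈ candsB := by
  interval_cases x <;> decide

theorem nodup_candsB : candsB.Nodup := by decide

/-- All `v : DP δ` with `v·v = c` and `K·v = d`, within the box. -/
def enumDP (δ : ℕ) (c d : ℤ) : List (DP δ) :=
  cands.flatMap fun a => (enumB candsB δ (3 * a + d) (a * a - c)).map (Fin.cons a)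

theorem form_self {δ : ℕ} (v : DP δ) : form v v = v 0 * v 0 - ∑ i : Fin δ, v i.succ ^ 2 := by
  simp [form, pow_two]

theorem form_canon {δ : ℕ} (v : DP δ) :
    form (canon δ) v = -3 * v 0 + ∑ i : Fin δ, v i.succ := by
  simp [form, canon]

theorem form_comm {δ : ℕ} (v w : DP δ) : form v w = form w v := by
  simp [form, mul_comm]

/-- The numerical types considered: `(c, d) = (0, -2)` and `(-1, -1)`. -/
def Typ (c d : ℤ) : Prop := (c = 0 ∧ d = -2) ∨ (c = -1 ∧ d = -1)

theorem bound {δ : ℕ} (h8 : δ ≤ 8) {c d : ℤ} (ht : Typ c d) (v : DP δ)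
    (hc : form v v = c) (hd : form (canon δ) v = d) (j : Fin (δ + 1)) :
    -11 ≤ v j ∧ v j ≤ 11 := by
  rw [form_self] at hc
  rw [form_canon] at hd
  have hcs := sq_sum_le_card_mul_sum_sq (s := (Finset.univ : Finset (Fin δ)))
    (f := fun i => v i.succ)
  rw [Finset.card_univ, Fintype.card_fin] at hcs
  have hs : (0:ℤ) ≤ ∑ i : Fin δ, v i.succ ^ 2 :=
    Finset.sum_nonneg fun i _ => sq_nonneg _
  have hδ : (δ : ℤ) ≤ 8 := by exact_mod_cast h8
  have hsq : ∑ i : Fin δ, v i.succ ^ 2 = v 0 * v 0 - c := by linarith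
  have hsum : ∑ i : Fin δ, v i.succ = 3 * v 0 + d := by linarith
  rw [hsq] at hs
  rw [hsum, hsq] at hcs
  have hcs' : (3 * v 0 + d) ^ 2 ≤ 8 * (v 0 * v 0 - c) :=
    le_trans hcs (mul_le_mul_of_nonneg_right hδ hs)
  have ha : -1 ≤ v 0 ∧ v 0 ≤ 11 := by
    rcases ht with ⟨rfl, rfl⟩ | ⟨rfl, rfl⟩
    · constructor <;> nlinarith
    · constructor <;> nlinarith
  refine Fin.cases ⟨by linarith [ha.1], ha.2⟩ (fun i => ?_) j
  have hi : v i.succ ^ 2 ≤ v 0 * v 0 - c := by
    rw [← hsq]
    exact Finset.single_le_sum (f := fun i => v i.succ ^ 2) (fun i _ => sq_nonneg _)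
      (Finset.mem_univ i)
  have : v i.succ ^ 2 ≤ 122 := by
    rcases ht with ⟨rfl, rfl⟩ | ⟨rfl, rfl⟩ <;> nlinarith [ha.1, ha.2]
  constructor <;> nlinarith

theorem bound_succ {δ : ℕ} (h8 : δ ≤ 8) {c d : ℤ} (ht : Typ c d) (v : DP δ)
    (hc : form v v = c) (hd : form (canon δ) v = d) (i : Fin δ) :
    -1 ≤ v i.succ ∧ v i.succ ≤ 4 := by
  rw [form_self] at hc
  rw [form_canon] at hd
  have hcs := sq_sum_le_card_mul_sum_sq (s := (Finset.univ.erase i : Finset (Fin δ)))
    (f := fun i => v i.succ)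
  have h1 := Finset.sum_erase_add Finset.univ (fun i => v i.succ) (Finset.mem_univ i)
  have h2 := Finset.sum_erase_add Finset.univ (fun i => v i.succ ^ 2) (Finset.mem_univ i)
  have hcard : ((Finset.univ.erase i).card : ℤ) ≤ 7 := by
    rw [Finset.card_erase_of_mem (Finset.mem_univ i), Finset.card_univ, Fintype.card_fin]
    omega
  have hs : (0:ℤ) ≤ ∑ j ∈ Finset.univ.erase i, v j.succ ^ 2 :=
    Finset.sum_nonneg fun j _ => sq_nonneg _
  have hsq : ∑ j ∈ Finset.univ.erase i, v j.succ ^ 2 = v 0 * v 0 - c - v i.succ ^ 2 := by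
    linarith
  have hsum : ∑ j ∈ Finset.univ.erase i, v j.succ = 3 * v 0 + d - v i.succ := by
    linarith
  have hcs' := le_trans hcs (mul_le_mul_of_nonneg_right hcard hs)
  rw [hsq, hsum] at hcs'
  rcases ht with ⟨rfl, rfl⟩ | ⟨rfl, rfl⟩
  · constructor
    · by_contra hlt
      nlinarith [sq_nonneg (4 * v 0 - 12 - 6 * v i.succ)]
    · by_contra hlt
      nlinarith [sq_nonneg (4 * v 0 - 12 - 6 * v i.succ)]
  · constructor
    · by_contra hlt
      nlinarith [sq_nonneg (4 * v 0 - 6 - 6 * v i.succ)]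
    · by_contra hlt
      nlinarith [sq_nonneg (4 * v 0 - 6 - 6 * v i.succ)]

theorem mem_enumDP {δ : ℕ} (h8 : δ ≤ 8) {c d : ℤ} (ht : Typ c d) (v : DP δ) :
    v ∈ enumDP δ c d ↔ form v v = c ∧ form (canon δ) v = d := by
  constructor
  · intro hv
    obtain ⟨a, -, hv⟩ := List.mem_flatMap.mp hv
    obtain ⟨g, hg, rfl⟩ := List.mem_map.mp hv
    obtain ⟨-, h1, h2⟩ := (mem_enumB _ _ _ _ g).mp hg
    rw [form_self, form_canon]
    simp [h1, h2]
  · rintro ⟨hc, hd⟩
    have hb := bound h8 ht v hc hd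
    have hb' := bound_succ h8 ht v hc hd
    rw [form_self] at hc
    rw [form_canon] at hd
    refine List.mem_flatMap.mpr ⟨v 0, mem_cands (hb 0).1 (hb 0).2, List.mem_map.mpr ⟨Fin.tail v,
      (mem_enumB _ _ _ _ _).mpr ⟨fun i => mem_candsB (hb' i).1 (hb' i).2, ?_, ?_⟩,
      Fin.cons_self_tail v⟩⟩
    · simp [Fin.tail]; linarith
    · simp [Fin.tail]; linarith

theorem nodup_enumDP (δ : ℕ) (c d : ℤ) : (enumDP δ c d).Nodup := by
  rw [enumDP, List.nodup_flatMap]
  refine ⟨fun a _ => (nodup_enumB _ nodup_candsB _ _ _).map (Fin.cons_right_injective (α := fun _ => ℤ) a),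
    nodup_cands.imp ?_⟩
  intro a b hab f hfa hfb
  obtain ⟨g, -, rfl⟩ := List.mem_map.mp hfa
  obtain ⟨g', -, h⟩ := List.mem_map.mp hfb
  exact hab (by simpa using (congrFun h 0).symm)

theorem ncard_eq {δ : ℕ} (h8 : δ ≤ 8) {c d : ℤ} (ht : Typ c d) :
    {v : DP δ | form v v = c ∧ form (canon δ) v = d}.ncard = (enumDP δ c d).length := by
  have : {v : DP δ | form v v = c ∧ form (canon δ) v = d} =
      ↑((enumDP δ c d).toFinset) := by
    ext v; simp [mem_enumDP h8 ht]
  rw [this, Set.ncard_coe_finset, List.toFinset_card_of_nodup (nodup_enumDP δ c d)]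

/-! ### Reflections -/

theorem form_add_left {δ : ℕ} (u v w : DP δ) : form (u + v) w = form u w + form v w := by
  simp [form, add_mul, Finset.sum_add_distrib]; ring

theorem form_smul_left {δ : ℕ} (t : ℤ) (v w : DP δ) : form (t • v) w = t * form v w := by
  simp [form, mul_sub, mul_assoc, Finset.mul_sum]

theorem form_add_right {δ : ℕ} (u v w : DP δ) : form u (v + w) = form u v + form u w := by
  rw [form_comm u, form_add_left, form_comm v, form_comm w]

theorem form_smul_right {δ : ℕ} (t : ℤ) (v w : DP δ) : form v (t • w) = t * form v w := by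
  rw [form_comm, form_smul_left, form_comm]

theorem form_sub_left {δ : ℕ} (u v w : DP δ) : form (u - v) w = form u w - form v w := by
  have h := form_add_left (u - v) v w
  rw [sub_add_cancel] at h
  linarith

/-- The reflection in a root. -/
def refl {δ : ℕ} (r : DP δ) (hr : form r r = -2) : DP δ ≃ₗ[ℤ] DP δ :=
  LinearEquiv.ofInvolutive
    { toFun := fun v => v + form v r • r
      map_add' := fun u v => by rw [form_add_left, add_smul]; abel
      map_smul' := fun t v => by
        rw [form_smul_left, RingHom.id_apply, smul_add, mul_smul] }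
    (fun v => by
      show v + form v r • r + form (v + form v r • r) r • r = v
      rw [form_add_left, form_smul_left, hr, add_assoc, ← add_smul]
      rw [show form v r + (form v r + form v r * -2) = 0 by ring]
      simp)

theorem refl_apply {δ : ℕ} (r : DP δ) (hr : form r r = -2) (v : DP δ) :
    refl r hr v = v + form v r • r := rfl

theorem isWeyl_refl {δ : ℕ} (r : DP δ) (hr : form r r = -2) (hK : form (canon δ) r = 0) :
    IsWeyl (refl r hr) := by
  refine ⟨fun v w => ?_, by rw [refl_apply, hK, zero_smul, add_zero]⟩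
  simp only [refl_apply, form_add_left, form_add_right, form_smul_left, form_smul_right, hr,
    form_comm r w]
  ring

theorem isWeyl_id {δ : ℕ} : IsWeyl (LinearEquiv.refl ℤ (DP δ)) := ⟨fun _ _ => rfl, rfl⟩

theorem isWeyl_trans {δ : ℕ} {g h : DP δ ≃ₗ[ℤ] DP δ} (hg : IsWeyl g) (hh : IsWeyl h) :
    IsWeyl (g.trans h) :=
  ⟨fun v w => by simp [hh.1, hg.1], by simp [hg.2, hh.2]⟩

theorem isWeyl_symm {δ : ℕ} {g : DP δ ≃ₗ[ℤ] DP δ} (hg : IsWeyl g) : IsWeyl g.symm :=
  ⟨fun v w => by rw [← hg.1]; simp, by rw [LinearEquiv.symm_apply_eq]; exact hg.2.symm⟩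

theorem isWeyl_canon {δ : ℕ} {g : DP δ ≃ₗ[ℤ] DP δ} (hg : IsWeyl g) (v : DP δ) :
    form (canon δ) (g v) = form (canon δ) v := by
  conv_lhs => rw [← hg.2]
  rw [hg.1]

/-! ### Simple roots -/

/-- `e_{i+1} - e_{i+2}`. -/
def permRoot (δ : ℕ) (i : ℕ) : DP δ := fun j =>
  if j.val = i + 1 then -1 else if j.val = i + 2 then 1 else 0

/-- `ℓ - e_1 - e_2 - e_3`. -/
def cremRoot (δ : ℕ) : DP δ := fun j => if j.val ≤ 3 then 1 else 0

/-- Simple roots. -/
def simples (δ : ℕ) : List (DP δ) :=
  (if 3 ≤ δ then [cremRoot δ] else []) ++ (List.range (δ - 1)).map (permRoot δ)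

/-- A regular vector in the fundamental chamber. -/
def rho (δ : ℕ) : DP δ := fun j => if j.val = 0 then 30 else 9 - (j.val : ℤ)

theorem simples_spec : ∀ δ < 9, ∀ r ∈ simples δ,
    form r r = -2 ∧ form (canon δ) r = 0 ∧ 0 < form r (rho δ) := by decide +kernel

/-- The simple roots orthogonal to all of `xs`. -/
def perpRoots {δ : ℕ} (xs : List (DP δ)) : List (DP δ) :=
  (simples δ).filter fun r => xs.all fun x => decide (form x r = 0)

/-- `v` is dominant for the roots orthogonal to `xs`. -/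
def isDom {δ : ℕ} (xs : List (DP δ)) (v : DP δ) : Bool :=
  (perpRoots xs).all fun r => decide (0 ≤ form v r)

theorem height_lb {δ : ℕ} (h8 : δ ≤ 8) (v : DP δ) (hv : ∀ j, -11 ≤ v j ∧ v j ≤ 11) :
    -1100 ≤ form v (rho δ) := by
  have h0 := hv 0
  have hle : ∀ i : Fin δ, v i.succ * rho δ i.succ ≤ 88 := by
    intro i
    have h1 := hv i.succ
    have hi : (i.val : ℤ) ≤ 7 := by
      have := i.isLt; omega
    have : rho δ i.succ = 8 - (i.val : ℤ) := by
      simp [rho]; ring
    rw [this]
    have hp : (0:ℤ) ≤ (i.val : ℤ) := by positivity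
    nlinarith
  have hsum : ∑ i : Fin δ, v i.succ * rho δ i.succ ≤ 704 := by
    refine le_trans (Finset.sum_le_card_nsmul _ _ 88 fun i _ => hle i) ?_
    simp; omega
  have : rho δ 0 = 30 := by simp [rho]
  simp only [form, this]
  linarith

theorem exists_weyl_dominant {δ : ℕ} (h8 : δ ≤ 8) {c d : ℤ} (ht : Typ c d)
    (xs : List (DP δ)) (v : DP δ) (hc : form v v = c) (hd : form (canon δ) v = d) :
    ∃ g : DP δ ≃ₗ[ℤ] DP δ, IsWeyl g ∧ (∀ x ∈ xs, g x = x) ∧
      g v ∈ (enumDP δ c d).filter (isDom xs) := by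
  suffices H : ∀ n : ℕ, ∀ w : DP δ, form w w = c → form (canon δ) w = d →
      (form w (rho δ) + 1100).toNat = n →
      ∃ g : DP δ ≃ₗ[ℤ] DP δ, IsWeyl g ∧ (∀ x ∈ xs, g x = x) ∧ isDom xs (g w) = true by
    obtain ⟨g, hg, hgx, hdom⟩ := H _ v hc hd rfl
    refine ⟨g, hg, hgx, List.mem_filter.mpr ⟨(mem_enumDP h8 ht _).mpr ⟨?_, ?_⟩, hdom⟩⟩
    · rw [hg.1, hc]
    · rw [isWeyl_canon hg, hd]
  intro n
  induction n using Nat.strong_induction_on with
  | _ n ih =>
    intro w hwc hwd hn
    by_cases hdom : isDom xs w = true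
    · exact ⟨_, isWeyl_id, fun _ _ => rfl, hdom⟩
    · simp only [isDom, List.all_eq_true, decide_eq_true_eq, not_forall, not_le] at hdom
      obtain ⟨r, hr, hneg⟩ := hdom
      rw [perpRoots, List.mem_filter] at hr
      obtain ⟨hr1, hr2, hr3⟩ := simples_spec δ (by omega) r hr.1
      have hperp : ∀ x ∈ xs, form x r = 0 := by simpa using hr.2
      have hW := isWeyl_refl r hr1 hr2
      have hc' : form (refl r hr1 w) (refl r hr1 w) = c := by rw [hW.1, hwc]
      have hd' : form (canon δ) (refl r hr1 w) = d := by rw [isWeyl_canon hW, hwd]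
      have hlt : form (refl r hr1 w) (rho δ) < form w (rho δ) := by
        rw [refl_apply, form_add_left, form_smul_left]
        nlinarith
      have hlb := height_lb h8 _ (bound h8 ht _ hc' hd')
      obtain ⟨g, hg, hgx, hgd⟩ := ih _ (by omega) _ hc' hd' rfl
      refine ⟨(refl r hr1).trans g, isWeyl_trans hW hg, fun x hx => ?_, hgd⟩
      show g (refl r hr1 x) = x
      rw [refl_apply, hperp x hx, zero_smul, add_zero, hgx x hx]

end DP97
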