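import Groth.Agent.DP97.Basic

/-!
# Del Pezzo lattices: tables of dominant vectors and counts
-/

set_option autoImplicit false
open W4c3severiratdp

namespace DP97

/-- The conic class `ℓ - e_1`. -/
def q1 (δ : ℕ) : DP δ := fun j => if j.val ≤ 1 then 1 else 0

/-- The exceptional class `e_8`. -/
def e8 : DP 8 := ![0,0,0,0,0,0,0,0,-1]

theorem conic_dom_2 : ∀ v ∈ (enumDP 2 0 (-2)).filter (isDom []), v = q1 2 := by
  decide +kernel

/-- Conics, dominant for the stabilizer of `q1`. -/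
def conic2_2 : List (DP 2) := [![1,0,1], ![1,1,0]]

theorem conic_dom2_2 :
    ∀ v ∈ (enumDP 2 0 (-2)).filter (isDom [q1 2]), v ∈ conic2_2 := by
  decide +kernel

theorem conic_dom_3 : ∀ v ∈ (enumDP 3 0 (-2)).filter (isDom []), v = q1 3 := by
  decide +kernel

/-- Conics, dominant for the stabilizer of `q1`. -/
def conic2_3 : List (DP 3) := [![1,0,1,0], ![1,1,0,0]]

theorem conic_dom2_3 :
    ∀ v ∈ (enumDP 3 0 (-2)).filter (isDom [q1 3]), v ∈ conic2_3 := by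
  decide +kernel

theorem conic_dom_4 : ∀ v ∈ (enumDP 4 0 (-2)).filter (isDom []), v = q1 4 := by
  decide +kernel

/-- Conics, dominant for the stabilizer of `q1`. -/
def conic2_4 : List (DP 4) := [![1,0,1,0,0], ![1,1,0,0,0]]

theorem conic_dom2_4 :
    ∀ v ∈ (enumDP 4 0 (-2)).filter (isDom [q1 4]), v ∈ conic2_4 := by
  decide +kernel

theorem conic_dom_5 : ∀ v ∈ (enumDP 5 0 (-2)).filter (isDom []), v = q1 5 := by
  decide +kernel

/-- Conics, dominant for the stabilizer of `q1`. -/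
def conic2_5 : List (DP 5) := [![1,0,1,0,0,0], ![1,1,0,0,0,0], ![2,0,1,1,1,1]]

theorem conic_dom2_5 :
    ∀ v ∈ (enumDP 5 0 (-2)).filter (isDom [q1 5]), v ∈ conic2_5 := by
  decide +kernel

theorem conic_dom_6 : ∀ v ∈ (enumDP 6 0 (-2)).filter (isDom []), v = q1 6 := by
  decide +kernel

/-- Conics, dominant for the stabilizer of `q1`. -/
def conic2_6 : List (DP 6) := [![1,0,1,0,0,0,0], ![1,1,0,0,0,0,0], ![2,0,1,1,1,1,0]]

theorem conic_dom2_6 :
    ∀ v ∈ (enumDP 6 0 (-2)).filter (isDom [q1 6]), v ∈ conic2_6 := by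
  decide +kernel

theorem conic_dom_7 : ∀ v ∈ (enumDP 7 0 (-2)).filter (isDom []), v = q1 7 := by
  decide +kernel

/-- Conics, dominant for the stabilizer of `q1`. -/
def conic2_7 : List (DP 7) := [![1,0,1,0,0,0,0,0], ![1,1,0,0,0,0,0,0], ![2,0,1,1,1,1,0,0], ![3,0,2,1,1,1,1,1], ![5,1,2,2,2,2,2,2]]

theorem conic_dom2_7 :
    ∀ v ∈ (enumDP 7 0 (-2)).filter (isDom [q1 7]), v ∈ conic2_7 := by
  decide +kernel

theorem conic_dom_8 : ∀ v ∈ (enumDP 8 0 (-2)).filter (isDom []), v = q1 8 := by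
  decide +kernel

/-- Conics, dominant for the stabilizer of `q1`. -/
def conic2_8 : List (DP 8) := [![1,0,1,0,0,0,0,0,0], ![1,1,0,0,0,0,0,0,0], ![2,0,1,1,1,1,0,0,0], ![3,0,2,1,1,1,1,1,0], ![4,0,2,2,2,1,1,1,1], ![5,0,2,2,2,2,2,2,1], ![5,1,2,2,2,2,2,2,0], ![7,1,3,3,3,3,2,2,2], ![8,1,3,3,3,3,3,3,3], ![11,3,4,4,4,4,4,4,4]]

theorem conic_dom2_8 :
    ∀ v ∈ (enumDP 8 0 (-2)).filter (isDom [q1 8]), v ∈ conic2_8 := by
  decide +kernel

theorem exc_dom : ∀ v ∈ (enumDP 8 (-1) (-1)).filter (isDom []), v = e8 := by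
  decide +kernel

/-- Exceptional classes, dominant for the stabilizer of `e8`. -/
def exc2 : List (DP 8) := [![0,0,0,0,0,0,0,-1,0], ![0,0,0,0,0,0,0,0,-1], ![1,1,0,0,0,0,0,0,1], ![3,1,1,1,1,1,1,0,2], ![6,2,2,2,2,2,2,2,3]]

theorem exc_dom2 : ∀ v ∈ (enumDP 8 (-1) (-1)).filter (isDom [e8]), v ∈ exc2 := by
  decide +kernel

end DP97
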