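import Groth.Agent.DP97.Facts

/-!
# Del Pezzo lattices: orbit lemmas
-/

set_option autoImplicit false
open W4c3severiratdp

namespace DP97

theorem weyl_form_left {δ : ℕ} {g : DP δ ≃ₗ[ℤ] DP δ} (hg : IsWeyl g) {x : DP δ} (hx : g x = x)
    (v : DP δ) : form x (g v) = form x v := by
  conv_lhs => rw [← hx]
  rw [hg.1]

theorem pair_normal {δ : ℕ} (h8 : δ ≤ 8)
    (hdom : ∀ v ∈ (enumDP δ 0 (-2)).filter (isDom []), v = q1 δ)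
    (v₁ v₂ : DP δ) (h1 : IsConic v₁) (h2 : IsConic v₂) :
    ∃ g : DP δ ≃ₗ[ℤ] DP δ, IsWeyl g ∧ g v₁ = q1 δ ∧
      g v₂ ∈ (enumDP δ 0 (-2)).filter (isDom [q1 δ]) := by
  have ht : Typ 0 (-2) := Or.inl ⟨rfl, rfl⟩
  obtain ⟨g, hg, -, hv⟩ := exists_weyl_dominant h8 ht [] v₁ h1.1 h1.2
  have hgv : g v₁ = q1 δ := hdom _ hv
  obtain ⟨h, hh, hfix, hv2⟩ := exists_weyl_dominant h8 ht [q1 δ] (g v₂)
    (by rw [hg.1]; exact h2.1) (by rw [isWeyl_canon hg]; exact h2.2)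
  refine ⟨g.trans h, isWeyl_trans hg hh, ?_, hv2⟩
  rw [LinearEquiv.trans_apply, hgv]
  exact hfix _ (List.mem_cons_self)

theorem pairs_same_orbit {δ : ℕ} (h8 : δ ≤ 8) (L : List (DP δ))
    (hdom : ∀ v ∈ (enumDP δ 0 (-2)).filter (isDom []), v = q1 δ)
    (hdom2 : ∀ v ∈ (enumDP δ 0 (-2)).filter (isDom [q1 δ]), v ∈ L)
    (P : ℤ → Prop)
    (hinj : ∀ a ∈ L, ∀ b ∈ L, form (q1 δ) a = form (q1 δ) b → P (form (q1 δ) a) → a = b)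
    (v₁ v₂ w₁ w₂ : DP δ) (hv₁ : IsConic v₁) (hv₂ : IsConic v₂) (hw₁ : IsConic w₁)
    (hw₂ : IsConic w₂) (heq : form v₁ v₂ = form w₁ w₂) (hP : P (form v₁ v₂)) :
    ∃ g : DP δ ≃ₗ[ℤ] DP δ, IsWeyl g ∧ g v₁ = w₁ ∧ g v₂ = w₂ := by
  obtain ⟨g, hg, g1, g2⟩ := pair_normal h8 hdom v₁ v₂ hv₁ hv₂
  obtain ⟨h, hh, h1, h2⟩ := pair_normal h8 hdom w₁ w₂ hw₁ hw₂
  have eg : form (q1 δ) (g v₂) = form v₁ v₂ := by rw [← g1, hg.1]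
  have eh : form (q1 δ) (h w₂) = form w₁ w₂ := by rw [← h1, hh.1]
  have he : g v₂ = h w₂ := hinj _ (hdom2 _ g2) _ (hdom2 _ h2) (by rw [eg, eh, heq]) (eg ▸ hP)
  refine ⟨g.trans h.symm, isWeyl_trans hg (isWeyl_symm hh), ?_, ?_⟩
  · rw [LinearEquiv.trans_apply, g1, ← h1, LinearEquiv.symm_apply_apply]
  · rw [LinearEquiv.trans_apply, he, LinearEquiv.symm_apply_apply]

theorem exc_normal (L : DP 8) (hL : IsExc L) :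
    ∃ g : DP 8 ≃ₗ[ℤ] DP 8, IsWeyl g ∧ g L = e8 := by
  obtain ⟨g, hg, -, hv⟩ := exists_weyl_dominant (le_refl 8) (Or.inr ⟨rfl, rfl⟩) [] L hL.1 hL.2
  exact ⟨g, hg, exc_dom _ hv⟩

theorem isExc_map {δ : ℕ} {g : DP δ ≃ₗ[ℤ] DP δ} (hg : IsWeyl g) {v : DP δ} (hv : IsExc v) :
    IsExc (g v) :=
  ⟨by rw [hg.1]; exact hv.1, by rw [isWeyl_canon hg]; exact hv.2⟩

theorem stab_normal (v : DP 8) (hv : IsExc v) :
    ∃ g : DP 8 ≃ₗ[ℤ] DP 8, IsWeyl g ∧ g e8 = e8 ∧ g v ∈ exc2 := by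
  obtain ⟨g, hg, hfix, hv'⟩ :=
    exists_weyl_dominant (le_refl 8) (Or.inr ⟨rfl, rfl⟩) [e8] v hv.1 hv.2
  exact ⟨g, hg, hfix _ (List.mem_cons_self), exc_dom2 _ hv'⟩

theorem exc2_inj : ∀ a ∈ exc2, ∀ b ∈ exc2, form a e8 = form b e8 → a = b := by decide +kernel

end DP97
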